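import Groth.Agent.S0249
import Groth.Agent.TraceEtale.Basic
import Groth.Agent.MiscTwoH99.InertiaGen
import Mathlib.RingTheory.Ideal.KrullsHeightTheorem
import Mathlib.RingTheory.Unramified.Locus
import Mathlib.RingTheory.Etale.Locus

/-!
A finite flat algebra unramified in codimension one is unramified (the discriminant has pure
codimension one).
-/

universe u

open TensorProduct IsLocalRing Groth.Agent.TraceEtale

set_option linter.style.haveILetI false

namespace Groth.Agent.P1Codim

/-- Being unramified at all primes over `p` gives an étale fibre over any algebra in which elements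
outside `p` are units. -/
theorem formallyUnramified_baseChange {A B : Type u} [CommRing A] [CommRing B] [Algebra A B]
    [Module.Finite A B] (p : Ideal A) [p.IsPrime] (K : Type u) [CommRing K] [Algebra A K]
    (hK : ∀ a ∉ p, IsUnit (algebraMap A K a))
    (h : ∀ q : PrimeSpectrum B, q.asIdeal.comap (algebraMap A B) = p → Algebra.IsUnramifiedAt A q.asIdeal) :
    Algebra.FormallyUnramified K (K ⊗[A] B) := by
  let Z : Set (PrimeSpectrum B) := (Algebra.unramifiedLocus A B)ᶜ
  have hclosed : IsClosed (PrimeSpectrum.comap (algebraMap A B) '' Z) :=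
    PrimeSpectrum.isClosedMap_comap_of_isIntegral _
      (algebraMap_isIntegral_iff.2 (Algebra.IsIntegral.of_finite A B)) _
      (Algebra.isOpen_unramifiedLocus).isClosed_compl
  have hp : (⟨p, inferInstance⟩ : PrimeSpectrum A) ∉ PrimeSpectrum.comap (algebraMap A B) '' Z := by
    rintro ⟨q, hq, hqp⟩
    exact hq (h q (congrArg PrimeSpectrum.asIdeal hqp))
  obtain ⟨_, ⟨_, ⟨a, rfl⟩, rfl⟩, hpa, hsub⟩ :=
    PrimeSpectrum.isBasis_basic_opens.exists_subset_of_mem_open hp hclosed.isOpen_compl
  have hB : (PrimeSpectrum.basicOpen (algebraMap A B a) : Set (PrimeSpectrum B)) ⊆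
      Algebra.unramifiedLocus A B := fun q hq => by
    by_contra hc
    exact hsub (show PrimeSpectrum.comap (algebraMap A B) q ∈ PrimeSpectrum.basicOpen a from hq) ⟨q, hc, rfl⟩
  haveI hFU := Algebra.basicOpen_subset_unramifiedLocus_iff.1 hB
  -- `K ⊗ B` factors through the localization at `a`
  let f : B →ₐ[A] K ⊗[A] B := Algebra.TensorProduct.includeRight
  have hu : ∀ y : Submonoid.powers (algebraMap A B a), IsUnit (f y) := by
    rintro ⟨_, n, rfl⟩
    show IsUnit (f (algebraMap A B a ^ n))
    rw [map_pow, f.commutes, IsScalarTower.algebraMap_apply A K (K ⊗[A] B)]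
    exact ((hK a hpa).map _).pow n
  let L := Localization.Away (algebraMap A B a)
  let g : L →ₐ[A] K ⊗[A] B := IsLocalization.liftAlgHom (f := f) hu
  let G : K ⊗[A] L →ₐ[K] K ⊗[A] B :=
    Algebra.TensorProduct.lift (Algebra.ofId K _) g fun _ _ => .all _ _
  refine Algebra.FormallyUnramified.of_surjective G fun z => ?_
  induction z using TensorProduct.induction_on with
  | zero => exact ⟨0, map_zero _⟩
  | add x y hx hy =>
    obtain ⟨x', rfl⟩ := hx
    obtain ⟨y', rfl⟩ := hy
    exact ⟨x' + y', map_add _ _ _⟩
  | tmul c b =>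
    refine ⟨c ⊗ₜ algebraMap B L b, ?_⟩
    rw [Algebra.TensorProduct.lift_tmul]
    show algebraMap K (K ⊗[A] B) c * IsLocalization.lift (g := f.toRingHom) hu (algebraMap B L b) = c ⊗ₜ b
    rw [IsLocalization.lift_eq]
    simp [f, Algebra.TensorProduct.algebraMap_apply]

/-- A finite flat algebra over a Noetherian local ring of positive dimension which is unramified at
the primes of height one is étale. -/
theorem etale_of_finite_flat_codim_one {A B : Type u} [CommRing A] [IsLocalRing A] [IsNoetherianRing A]
    [CommRing B] [Algebra A B] [Module.Finite A B] [Module.Flat A B]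
    (hA : (1 : WithBot ℕ∞) ≤ ringKrullDim A)
    (h : ∀ q : PrimeSpectrum B, q.asIdeal.height = 1 → Algebra.IsUnramifiedAt A q.asIdeal) :
    Algebra.Etale A B := by
  classical
  haveI : IsNoetherianRing B := IsNoetherianRing.of_finite A B
  haveI : Module.Free A B := Module.free_of_flat_of_isLocalRing
  let b := Module.Free.chooseBasis A B
  rw [etale_iff_bijective_traceForm A B, bijective_traceForm_iff b]
  by_contra hu
  obtain ⟨P, hP, hdP, hP1⟩ := S0249.result A hA _ ((IsLocalRing.mem_maximalIdeal _).2 hu)
  have hq : ∀ q : PrimeSpectrum B, q.asIdeal.comap (algebraMap A B) = P →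
      Algebra.IsUnramifiedAt A q.asIdeal := fun q hqP => by
    haveI : q.asIdeal.LiesOver P := ⟨hqP.symm⟩
    refine h q (le_antisymm ?_ ?_)
    · exact (MiscTwoH99.height_le_height_comap q.asIdeal).trans (hqP ▸ hP1.le)
    · rw [Ideal.height_eq_height_add_of_liesOver_of_hasGoingDown P q.asIdeal, hP1]
      exact le_self_add
  haveI := formallyUnramified_baseChange P P.ResidueField (fun a ha =>
    isUnit_iff_ne_zero.2 fun h0 => ha (Ideal.algebraMap_residueField_eq_zero.1 h0)) hq
  haveI : Algebra.FormallyEtale P.ResidueField (P.ResidueField ⊗[A] B) :=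
    Algebra.FormallyEtale.of_formallyUnramified_of_field _ _
  haveI : Algebra.Etale P.ResidueField (P.ResidueField ⊗[A] B) :=
    { finitePresentation := Algebra.FinitePresentation.of_finiteType.1 inferInstance }
  have h1 := (bijective_traceForm_iff (b.baseChange P.ResidueField)).1
    ((etale_iff_bijective_traceForm P.ResidueField (P.ResidueField ⊗[A] B)).1 inferInstance)
  rw [discr_baseChange] at h1
  exact h1.ne_zero (Ideal.algebraMap_residueField_eq_zero.2 hdP)

attribute [local instance] Algebra.TensorProduct.rightAlgebra in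
/-- Localizing at the only prime `q` over its image: it suffices to treat the finite local algebra. -/
theorem isEtaleAt_of_localization {R C : Type u} [CommRing R] [CommRing C]
    [Algebra R C] [Module.Finite R C] (q : Ideal C) [q.IsPrime]
    (huniq : ∀ q'' : Ideal C, q''.IsPrime →
      q''.comap (algebraMap R C) = q.comap (algebraMap R C) → q'' = q)
    (h : ∀ (q' : Ideal C) [q'.IsPrime], q' ≤ q → q'.height = 1 → Algebra.IsUnramifiedAt R q')
    (key : IsLocalization.AtPrime (Localization.AtPrime (q.comap (algebraMap R C)) ⊗[R] C) q →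
      (∀ Q : PrimeSpectrum (Localization.AtPrime (q.comap (algebraMap R C)) ⊗[R] C),
        Q.asIdeal.height = 1 →
          Algebra.IsUnramifiedAt (Localization.AtPrime (q.comap (algebraMap R C))) Q.asIdeal) →
      Algebra.Etale (Localization.AtPrime (q.comap (algebraMap R C)))
        (Localization.AtPrime (q.comap (algebraMap R C)) ⊗[R] C)) :
    Algebra.IsEtaleAt R q := by
  classical
  let p := q.comap (algebraMap R C)
  haveI : p.IsPrime := inferInstanceAs (q.comap (algebraMap R C)).IsPrime
  let A := Localization.AtPrime p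
  let B := A ⊗[R] C
  let M : Submonoid C := Algebra.algebraMapSubmonoid C p.primeCompl
  haveI hMB : IsLocalization M B := IsLocalization.tensorRight A p.primeCompl
  have hle : ∀ q' : Ideal C, q'.IsPrime → Disjoint (M : Set C) (q' : Set C) → q' ≤ q := by
    intro q' hq' hd
    obtain ⟨Q, hQge, hQp, hQc⟩ := Ideal.exists_ideal_over_prime_of_isIntegral p q' fun r hr => by
      by_contra hrp
      exact Set.disjoint_left.1 hd (Algebra.mem_algebraMapSubmonoid_of_mem ⟨r, hrp⟩) hr
    exact (huniq Q hQp hQc) ▸ hQge
  haveI hBq : IsLocalization q.primeCompl B := by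
    refine IsLocalization.of_le M _ ?_ fun c hc => ?_
    · rintro _ ⟨r, hr, rfl⟩ hrq
      exact hr hrq
    · by_contra hu
      obtain ⟨Q, hQ, hcQ⟩ := exists_max_ideal_of_mem_nonunits hu
      haveI := hQ.isPrime
      exact hc (hle (Q.under C) inferInstance
        ((IsLocalization.isPrime_iff_isPrime_disjoint M B _).1 hQ.isPrime).2 hcQ)
  haveI : Algebra.Etale A B := by
    refine key hBq fun Q hQ => ?_
    let q' := Q.asIdeal.under C
    have hd : Disjoint (M : Set C) (q' : Set C) :=
      ((IsLocalization.isPrime_iff_isPrime_disjoint M B _).1 Q.2).2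
    haveI : Algebra.IsUnramifiedAt R q' :=
      h q' (hle q' inferInstance hd) ((IsLocalization.height_under M Q.asIdeal).trans hQ)
    haveI := IsLocalization.isLocalization_isLocalization_atPrime_isLocalization (M := M)
      (Localization.AtPrime Q.asIdeal) Q.asIdeal
    haveI : Algebra.IsUnramifiedAt R Q.asIdeal :=
      Algebra.FormallyUnramified.of_equiv ((IsLocalization.algEquiv q'.primeCompl
        (Localization.AtPrime q') (Localization.AtPrime Q.asIdeal)).restrictScalars R)
    exact Algebra.IsUnramifiedAt.of_restrictScalars R Q.asIdeal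
  haveI : Algebra.FormallyEtale R A := Algebra.FormallyEtale.of_isLocalization p.primeCompl
  haveI : Algebra.FormallyEtale R B := Algebra.FormallyEtale.comp R A B
  exact Algebra.FormallyEtale.of_equiv ((IsLocalization.algEquiv q.primeCompl
    B (Localization.AtPrime q)).restrictScalars R)

/-- The flat case. -/
theorem isEtaleAt_of_codim_one {R C : Type u} [CommRing R] [IsNoetherianRing R] [CommRing C]
    [Algebra R C] [Module.Finite R C] [Module.Flat R C] (q : Ideal C) [q.IsPrime]
    (hdim : 1 ≤ q.height)
    (huniq : ∀ q'' : Ideal C, q''.IsPrime →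
      q''.comap (algebraMap R C) = q.comap (algebraMap R C) → q'' = q)
    (h : ∀ (q' : Ideal C) [q'.IsPrime], q' ≤ q → q'.height = 1 → Algebra.IsUnramifiedAt R q') :
    Algebra.IsEtaleAt R q := by
  refine isEtaleAt_of_localization q huniq h fun _ hQ => etale_of_finite_flat_codim_one ?_ hQ
  rw [IsLocalization.AtPrime.ringKrullDim_eq_height (q.comap (algebraMap R C)) (Localization.AtPrime _)]
  exact_mod_cast hdim.trans (MiscTwoH99.height_le_height_comap q)

end Groth.Agent.P1Codim
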