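import Groth.Agent.P1Codim.Alg
import Groth.Agent.MiscTwoH99.NormalPurity
import Groth.Agent.DimFormula.DedekindFlat
import Groth.Agent.EGA41Lib.IntDim
import Groth.Agent.EtLoc7.Basic

/-! A normal domain finite over a regular local ring, unramified in codimension one, is étale. -/

universe u

open TensorProduct IsLocalRing

set_option linter.style.haveILetI false

namespace Groth.Agent.P1Codim

theorem exists_height_eq_one {B : Type u} [CommRing B] [IsDomain B] [IsNoetherianRing B]
    (hB : ¬ IsField B) : ∃ P : PrimeSpectrum B, P.asIdeal.height = 1 := by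
  obtain ⟨M, hM⟩ := Ideal.exists_maximal B
  obtain ⟨x, hxM, hx0⟩ := Submodule.exists_mem_ne_zero_of_ne_bot (Ring.ne_bot_of_isMaximal_of_not_isField hM hB)
  obtain ⟨P, hP, -⟩ := Ideal.exists_minimalPrimes_le (I := Ideal.span {x}) (J := M)
    ((Ideal.span_singleton_le_iff_mem _).2 hxM)
  haveI := hP.1.1
  refine ⟨⟨P, hP.1.1⟩, le_antisymm (Ideal.height_le_one_of_isPrincipal_of_mem_minimalPrimes (Ideal.span {x}) P hP) ?_⟩
  rw [ENat.one_le_iff_ne_zero]
  intro h0
  rw [Ideal.height_eq_zero_iff, IsDomain.minimalPrimes_eq_singleton_bot, Set.mem_singleton_iff] at h0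
  exact hx0 (Ideal.mem_bot.1 (h0 ▸ hP.1.2 (Ideal.mem_span_singleton_self x)))

theorem etale_of_normal_unramified_codim_one {A B : Type u} [CommRing A] [IsRegularLocalRing A]
    [CommRing B] [IsDomain B] [IsIntegrallyClosed B] [Algebra A B] [Module.Finite A B]
    (hinj : Function.Injective (algebraMap A B)) (hdim : (1 : WithBot ℕ∞) ≤ ringKrullDim B)
    (h : ∀ q : PrimeSpectrum B, q.asIdeal.height = 1 → Algebra.IsUnramifiedAt A q.asIdeal) :
    Algebra.Etale A B := by
  haveI : IsNoetherianRing B := IsNoetherianRing.of_finite A B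
  haveI := RegLoc6.isDomain_of_isRegularLocalRing A
  have hB : ¬ IsField B := fun hf => by
    rw [ringKrullDim_eq_zero_of_isField hf] at hdim
    exact absurd hdim (by decide)
  obtain ⟨P₁, hP₁⟩ := exists_height_eq_one hB
  have hU : ∀ q : PrimeSpectrum B, q.asIdeal.height ≤ 1 → Algebra.IsUnramifiedAt A q.asIdeal := by
    intro q hq
    rcases hq.eq_or_lt with e | e
    · exact h q e
    rw [ENat.lt_one_iff_eq_zero, Ideal.height_eq_zero_iff, IsDomain.minimalPrimes_eq_singleton_bot,
      Set.mem_singleton_iff] at e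
    exact Algebra.isOpen_unramifiedLocus.stableUnderGeneralization
      ((PrimeSpectrum.le_iff_specializes q P₁).1 (show q.asIdeal ≤ P₁.asIdeal by rw [e]; exact bot_le))
      (h P₁ hP₁)
  refine MiscTwoH99.etale_of_normal_of_codimOne hinj fun q hq => ?_
  let p := q.asIdeal.comap (algebraMap A B)
  haveI : p.IsPrime := inferInstanceAs (q.asIdeal.comap (algebraMap A B)).IsPrime
  haveI : q.asIdeal.LiesOver p := ⟨rfl⟩
  let := Localization.AtPrime.algebraOfLiesOver p q.asIdeal
  haveI := hU q ((MiscTwoH99.height_le_height_comap q.asIdeal).trans hq)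
  let A' := Localization.AtPrime p
  let B' := Localization.AtPrime q.asIdeal
  haveI : IsRegularLocalRing A' := RegLoc6.isRegularLocalRing_localization A p
  haveI := RegLoc6.isDomain_of_isRegularLocalRing A'
  haveI : IsPrincipalIdealRing A' := DimFormula.isPrincipalIdealRing_of_regular_dim_le_one
    (by rw [IsLocalization.AtPrime.ringKrullDim_eq_height p A']; exact_mod_cast hq)
  have hinj' : Function.Injective (algebraMap A' B') := by
    rw [injective_iff_map_eq_zero]
    intro x hx
    obtain ⟨a, s, rfl⟩ := IsLocalization.exists_mk'_eq p.primeCompl x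
    have h0 : algebraMap A B' a = 0 := by
      rw [IsScalarTower.algebraMap_apply A A' B', ← IsLocalization.mk'_spec A' a s, map_mul, hx, zero_mul]
    rw [IsScalarTower.algebraMap_apply A B B',
      map_eq_zero_iff _ (IsLocalization.injective B' q.asIdeal.primeCompl_le_nonZeroDivisors),
      map_eq_zero_iff _ hinj] at h0
    rw [h0, IsLocalization.mk'_zero]
  haveI : Module.IsTorsionFree A' B' := Module.isTorsionFree_iff_algebraMap_injective.2 hinj'
  haveI : Module.Flat A' B' := inferInstance
  haveI : Algebra.EssFiniteType A' B' := .of_comp A _ _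
  haveI : Algebra.FormallyEtale A' B' := EtLoc7.formallyEtale_of_formallyUnramified _ _
  haveI : Algebra.FormallyEtale A A' := Algebra.FormallyEtale.of_isLocalization p.primeCompl
  exact Algebra.FormallyEtale.comp A A' B'

/-- The normal case. -/
theorem isEtaleAt_of_normal_codim_one {R C : Type u} [CommRing R] [IsNoetherianRing R] [CommRing C]
    [Algebra R C] [Module.Finite R C] (q : Ideal C) [q.IsPrime]
    [IsRegularLocalRing (Localization.AtPrime (q.comap (algebraMap R C)))]
    [IsDomain (Localization.AtPrime q)] [IsIntegrallyClosed (Localization.AtPrime q)]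
    (hht : q.height = (q.comap (algebraMap R C)).height) (hdim : 1 ≤ q.height)
    (huniq : ∀ q'' : Ideal C, q''.IsPrime →
      q''.comap (algebraMap R C) = q.comap (algebraMap R C) → q'' = q)
    (h : ∀ (q' : Ideal C) [q'.IsPrime], q' ≤ q → q'.height = 1 → Algebra.IsUnramifiedAt R q') :
    Algebra.IsEtaleAt R q := by
  refine isEtaleAt_of_localization q huniq h fun hloc hQ => ?_
  let A := Localization.AtPrime (q.comap (algebraMap R C))
  let B := A ⊗[R] C
  letI : Algebra C B := Algebra.TensorProduct.rightAlgebra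
  haveI : IsLocalization.AtPrime B q := hloc
  let e := (IsLocalization.algEquiv q.primeCompl (Localization.AtPrime q) B).toRingEquiv
  haveI : IsDomain B := e.symm.toMulEquiv.isDomain
  haveI : IsIntegrallyClosed B := .of_equiv e
  have hdB : ringKrullDim B = q.height := IsLocalization.AtPrime.ringKrullDim_eq_height q B
  refine etale_of_normal_unramified_codim_one ?_ (by rw [hdB]; exact_mod_cast hdim) hQ
  haveI := RegLoc6.isDomain_of_isRegularLocalRing A
  rw [injective_iff_map_eq_zero]
  intro a ha
  by_contra ha0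
  let K := RingHom.ker (algebraMap A B)
  have haK : a ∈ K := ha
  let : Algebra (A ⧸ Ideal.span {a}) B := (Ideal.Quotient.lift _ (algebraMap A B) fun x hx =>
    (Ideal.span_singleton_le_iff_mem _).2 haK hx).toAlgebra
  haveI : Algebra.IsIntegral (A ⧸ Ideal.span {a}) B :=
    algebraMap_isIntegral_iff.1 (RingHom.IsIntegral.tower_top (Ideal.Quotient.mk (Ideal.span {a})) _
      (show (algebraMap A B).IsIntegral from algebraMap_isIntegral_iff.2 (Algebra.IsIntegral.of_finite A B)))
  have h1 := ringKrullDim_quotient_succ_le_of_nonZeroDivisor (mem_nonZeroDivisors_of_ne_zero ha0)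
  have h2 := EGA41Lib.ringKrullDim_le_of_integral (A := A ⧸ Ideal.span {a}) (B := B)
  rw [hdB] at h2
  rw [IsLocalization.AtPrime.ringKrullDim_eq_height (q.comap (algebraMap R C)) A, ← hht] at h1
  haveI : IsNoetherianRing C := IsNoetherianRing.of_finite R C
  have h3 : (q.height : WithBot ℕ∞) + 1 ≤ q.height := (add_le_add h2 le_rfl).trans h1
  exact absurd (WithBot.coe_le_coe.1 (by exact_mod_cast h3 : ((q.height + 1 : ℕ∞) : WithBot ℕ∞) ≤ q.height))
    (not_le.2 (ENat.lt_add_one_iff (Ideal.height_lt_top (I := q) ‹q.IsPrime›.ne_top).ne |>.2 le_rfl))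

end Groth.Agent.P1Codim
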