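import Groth.Agent.P1Codim.Normal
import Groth.Agent.EtStalk.Normal
import Groth.Agent.MorLib.ElemEtaleFinite
import Groth.Agent.EtStalk.Basic
import Groth.Agent.StalkLoc7.Basic
import Groth.Agent.FlatPtDesc.Basic

/-! Purity of the branch locus for flat quasi-finite morphisms. -/

universe u

open CategoryTheory CategoryTheory.Limits AlgebraicGeometry

set_option linter.style.haveILetI false

namespace Groth.Agent.P1Codim

variable {X Y : Scheme.{u}}

/-- Stalkwise unramified, read on a pair of affine opens. -/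
theorem formallyUnramified_stalkMap_iff (f : X ⟶ Y) {U : Y.Opens} (hU : IsAffineOpen U)
    {V : X.Opens} (hV : IsAffineOpen V) (hVU : V ≤ f ⁻¹ᵁ U) {x : X} (hxV : x ∈ V) :
    (f.stalkMap x).hom.FormallyUnramified ↔
      (letI := (f.appLE U V hVU).hom.toAlgebra
       Algebra.IsUnramifiedAt Γ(Y, U) (hV.primeIdealOf ⟨x, hxV⟩).asIdeal) := by
  algebraize [(f.appLE U V hVU).hom]
  let p := (hU.primeIdealOf ⟨f x, hVU hxV⟩).asIdeal
  let q := (hV.primeIdealOf ⟨x, hxV⟩).asIdeal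
  have : q.LiesOver p :=
    ⟨congr($(IsAffineOpen.comap_primeIdealOf_appLE U hU V hV hVU hxV).1).symm⟩
  let := Localization.AtPrime.algebraOfLiesOver p q
  rw [(RingHom.FormallyUnramified.respectsIso.arrow_mk_iso_iff
    (IsAffineOpen.arrowStalkMapIso f U hU V hV hVU hxV))]
  show (algebraMap (Localization.AtPrime p) (Localization.AtPrime q)).FormallyUnramified ↔ _
  rw [RingHom.formallyUnramified_algebraMap]
  exact ⟨fun _ => Algebra.FormallyUnramified.comp _ (Localization.AtPrime p) _,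
    fun _ => Algebra.FormallyUnramified.of_restrictScalars Γ(Y, U) _ _⟩

theorem stalkMap_formallyUnramified_of_loc (f : X ⟶ Y) (x : X) (h : MorLib.UnrLocus.Loc f x) :
    (f.stalkMap x).hom.FormallyUnramified := by
  obtain ⟨U, hx, hU⟩ := h
  exact (StalkLoc7.stalkMap_openImmersion_comp f U ⟨x, hx⟩).2 (FormallyUnramified.stalkMap (U.ι ≫ f) ⟨x, hx⟩)

theorem exists_etale_of_isEtaleAt (f : X ⟶ Y) [LocallyOfFiniteType f] [IsLocallyNoetherian Y]
    {U : Y.Opens} (hU : IsAffineOpen U) {V : X.Opens} (hV : IsAffineOpen V) (hVU : V ≤ f ⁻¹ᵁ U) {x : X}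
    (hxV : x ∈ V)
    (H : letI := (f.appLE U V hVU).hom.toAlgebra
      Algebra.IsEtaleAt Γ(Y, U) (hV.primeIdealOf ⟨x, hxV⟩).asIdeal) :
    ∃ W : X.Opens, x ∈ W ∧ Etale (W.ι ≫ f) := by
  have hFT := f.finiteType_appLE hU hV hVU
  algebraize [(f.appLE U V hVU).hom]
  haveI : IsNoetherianRing Γ(Y, U) := IsLocallyNoetherian.component_noetherian ⟨U, hU⟩
  haveI : Algebra.FinitePresentation Γ(Y, U) Γ(X, V) :=
    Algebra.FinitePresentation.of_finiteType.mp inferInstance
  obtain ⟨r, hr, hu⟩ := Algebra.exists_etale_of_isEtaleAt (R := Γ(Y, U))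
    (hV.primeIdealOf ⟨x, hxV⟩).asIdeal
  refine ⟨X.basicOpen r, StalkLoc7.mem_basicOpen hV hxV hr, ?_⟩
  have hle : X.basicOpen r ≤ f ⁻¹ᵁ U := (X.basicOpen_le r).trans hVU
  have : IsAffine _ := hU
  have : IsAffine _ := hV.basicOpen r
  rw [← Scheme.Hom.resLE_comp_ι f hle]
  haveI : Etale (f.resLE U (X.basicOpen r) hle) := by
    rw [HasRingHomProperty.iff_of_isAffine (P := @Etale)]
    refine (RingHom.Etale.respectsIso.arrow_mk_iso_iff
      (arrowResLEAppIso f U (X.basicOpen r) hle)).mpr ?_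
    have := hV.isLocalization_basicOpen r
    rw [← RingHom.etale_algebraMap] at hu
    convert RingHom.Etale.respectsIso.1 _
      (IsLocalization.algEquiv (.powers r) _ Γ(X, X.basicOpen r)).toRingEquiv hu
    ext a
    exact StalkLoc7.appLE_eq f hVU r a
  infer_instance

/-- Reduction of purity for a finite morphism to algebra. -/
theorem exists_etale_of_finite {Z U : Scheme.{u}} [IsLocallyNoetherian U] (g : Z ⟶ U)
    [IsFinite g] (z : Z)
    (huniq : ∀ z' : Z, g z' = g z → z' = z)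
    (h : ∀ z' : Z, z' ⤳ z → ringKrullDim (Z.presheaf.stalk z') = 1 →
      (g.stalkMap z').hom.FormallyUnramified)
    (key : ∀ (U₀ : U.Opens) (hU : IsAffineOpen U₀) (hz : g z ∈ U₀),
      letI := (g.appLE U₀ (g ⁻¹ᵁ U₀) le_rfl).hom.toAlgebra
      let q := ((hU.preimage g).primeIdealOf ⟨z, hz⟩).asIdeal
      Module.Finite Γ(U, U₀) Γ(Z, g ⁻¹ᵁ U₀) → IsNoetherianRing Γ(U, U₀) →
        ringKrullDim (Z.presheaf.stalk z) = q.height →
        (∀ q'' : Ideal Γ(Z, g ⁻¹ᵁ U₀), q''.IsPrime →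
          q''.comap (algebraMap Γ(U, U₀) _) = q.comap (algebraMap Γ(U, U₀) _) → q'' = q) →
        (∀ (q' : Ideal Γ(Z, g ⁻¹ᵁ U₀)) [q'.IsPrime], q' ≤ q → q'.height = 1 →
          Algebra.IsUnramifiedAt Γ(U, U₀) q') →
        Algebra.IsEtaleAt Γ(U, U₀) q) :
    ∃ W : Z.Opens, z ∈ W ∧ Etale (W.ι ≫ g) := by
  obtain ⟨U₀, hU, hzU, -⟩ := exists_isAffineOpen_mem_and_subset (x := g z) (U := ⊤) trivial
  have hV : IsAffineOpen (g ⁻¹ᵁ U₀) := hU.preimage g
  refine exists_etale_of_isEtaleAt g hU hV le_rfl (x := z) hzU ?_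
  have hfin : (g.appLE U₀ (g ⁻¹ᵁ U₀) le_rfl).hom.Finite := by
    rw [← Scheme.Hom.app_eq_appLE]; exact IsFinite.finite_app g U₀ hU
  algebraize [(g.appLE U₀ (g ⁻¹ᵁ U₀) le_rfl).hom]
  let pt : ∀ q : Ideal Γ(Z, g ⁻¹ᵁ U₀), q.IsPrime → Z := fun q hq => hV.fromSpec ⟨q, hq⟩
  have hmem : ∀ q hq, pt q hq ∈ g ⁻¹ᵁ U₀ := fun q hq => by
    have := Set.mem_range_self (f := hV.fromSpec) (⟨q, hq⟩ : PrimeSpectrum _)
    rwa [hV.range_fromSpec] at this
  have hprime : ∀ q hq, hV.primeIdealOf ⟨pt q hq, hmem q hq⟩ = ⟨q, hq⟩ := fun q hq =>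
    hV.fromSpec.isOpenEmbedding.injective (hV.fromSpec_primeIdealOf _)
  have hd : ∀ (y : Z) (hy : y ∈ g ⁻¹ᵁ U₀),
      ringKrullDim (Z.presheaf.stalk y) = (hV.primeIdealOf ⟨y, hy⟩).asIdeal.height := fun y hy => by
    letI : Algebra Γ(Z, g ⁻¹ᵁ U₀) (Z.presheaf.stalk y) := Z.presheaf.algebra_section_stalk ⟨y, hy⟩
    haveI : IsLocalization.AtPrime (Z.presheaf.stalk y) (hV.primeIdealOf ⟨y, hy⟩).asIdeal :=
      hV.isLocalization_stalk ⟨y, hy⟩
    exact IsLocalization.AtPrime.ringKrullDim_eq_height _ (Z.presheaf.stalk y)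
  refine key U₀ hU hzU inferInstance (IsLocallyNoetherian.component_noetherian ⟨U₀, hU⟩) (hd z hzU) ?_ ?_
  · intro q hq hqc
    have h1 : g (pt q hq) = g z := by
      rw [← show hU.fromSpec (hU.primeIdealOf ⟨g (pt q hq), hmem q hq⟩) = g (pt q hq) from hU.fromSpec_primeIdealOf _,
        ← show hU.fromSpec (hU.primeIdealOf ⟨g z, hzU⟩) = g z from hU.fromSpec_primeIdealOf _,
        ← IsAffineOpen.comap_primeIdealOf_appLE U₀ hU (g ⁻¹ᵁ U₀) hV le_rfl (hmem q hq),
        ← IsAffineOpen.comap_primeIdealOf_appLE U₀ hU (g ⁻¹ᵁ U₀) hV le_rfl hzU, hprime q hq]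
      exact congrArg _ (PrimeSpectrum.ext hqc)
    have h2 := huniq _ h1
    have h3 := hprime q hq
    simp only [h2] at h3
    exact congrArg PrimeSpectrum.asIdeal h3.symm
  · intro q hq hle h1
    have hsp : pt q hq ⤳ z := by
      rw [← show hV.fromSpec (hV.primeIdealOf ⟨z, hzU⟩) = z from hV.fromSpec_primeIdealOf _]
      exact ((PrimeSpectrum.le_iff_specializes _ _).1 hle).map hV.fromSpec.continuous
    have := (formallyUnramified_stalkMap_iff g hU hV le_rfl (x := pt q hq) (hmem q hq)).1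
      (h _ hsp (by rw [hd _ (hmem q hq), hprime q hq, h1]; rfl))
    convert this using 1
    exact (congrArg PrimeSpectrum.asIdeal (hprime q hq)).symm

/-- The étale-local reduction to a finite morphism. -/
theorem exists_etale_of_quasiFinite (f : X ⟶ Y) [LocallyOfFiniteType f]
    [IsLocallyNoetherian Y] (x : X) (hq : f.QuasiFiniteAt x)
    (hunr : ∀ x' : X, x' ⤳ x → ringKrullDim (X.presheaf.stalk x') = 1 →
      (f.stalkMap x').hom.FormallyUnramified)
    (key : ∀ (Z U : Scheme.{u}) (_ : IsLocallyNoetherian U) (e : Z ⟶ X) (g : U ⟶ Y) (h : Z ⟶ U) (z : Z),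
      Etale e → Etale g → IsFinite h → e ≫ f = h ≫ g → (Flat f → Flat h) → e.base z = x →
      (∀ z' : Z, h z' = h z → z' = z) →
      (∀ z' : Z, z' ⤳ z → ringKrullDim (Z.presheaf.stalk z') = 1 →
        (h.stalkMap z').hom.FormallyUnramified) →
      ∃ W : Z.Opens, z ∈ W ∧ Etale (W.ι ≫ h)) :
    ∃ U : X.Opens, x ∈ U ∧ Etale (U.ι ≫ f) := by
  haveI : IsLocallyNoetherian X := LocallyOfFiniteType.isLocallyNoetherian f
  obtain ⟨U, g, u, hg, V, v, hvV, hfin, hvu, huniq, hvx, -⟩ :=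
    MorLib.EEF.exists_elem_nbhd f x hq
  haveI : Etale g := hg.etale
  haveI : IsLocallyNoetherian U := LocallyOfFiniteType.isLocallyNoetherian g
  let e : V.toScheme ⟶ X := V.ι ≫ pullback.fst f g
  let z : V.toScheme := ⟨v, hvV⟩
  have hz : e.base z = x := hvx
  obtain ⟨W, hzW, hW⟩ := key V.toScheme U inferInstance e g (V.ι ≫ pullback.snd f g) z
    inferInstance inferInstance hfin (by simp [e, pullback.condition]) (fun _ => inferInstance) hz
    (fun z' hz' => Subtype.ext (huniq z'.1 z'.2 (hz'.trans hvu)))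
    (fun z' hsp h1 => by
      have hx' : e.base z' ⤳ x := hz ▸ hsp.map e.continuous
      obtain ⟨U', hxU', hU'⟩ := StalkLoc7.exists_unramified f (e.base z')
        (hunr _ hx' (by rw [← EtStalk.ringKrullDim_stalk e z']; exact h1))
      exact stalkMap_formallyUnramified_of_loc _ _ ((MorLib.UnrLocus.loc_comp_left V.ι _ z').2
        ((MorLib.UnrLocus.loc_pullback f g (V.ι z')).2 ⟨U', hxU', hU'⟩)))
  subst hvx
  refine FlatPtDesc.etale_nhd_descend f g v (Flat.stalkMap _ _) ⟨V.ι ''ᵁ W, ⟨z, hzW, rfl⟩, ?_⟩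
  have := hW
  rw [← Scheme.Hom.isoImage_inv_ι, Category.assoc, Category.assoc]
  infer_instance

/-- Purity for flat morphisms quasi-finite at a point. -/
theorem etale_at_of_flat_quasiFinite (f : X ⟶ Y) [LocallyOfFiniteType f] [Flat f]
    [IsLocallyNoetherian Y] (x : X) (hq : f.QuasiFiniteAt x)
    (hdim1 : (1 : WithBot ℕ∞) ≤ ringKrullDim (X.presheaf.stalk x))
    (hunr : ∀ x' : X, x' ⤳ x → ringKrullDim (X.presheaf.stalk x') = 1 →
      (f.stalkMap x').hom.FormallyUnramified) :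
    ∃ U : X.Opens, x ∈ U ∧ Etale (U.ι ≫ f) := by
  haveI : IsLocallyNoetherian X := LocallyOfFiniteType.isLocallyNoetherian f
  refine exists_etale_of_quasiFinite f x hq hunr fun Z U _ e g h z _ _ _ _ hfl hz huniq hu => ?_
  haveI := hfl inferInstance
  refine exists_etale_of_finite h z huniq hu fun U₀ hU hzU => ?_
  intro q hfin _ hd huq hh
  have hflat := h.flat_appLE hU (hU.preimage h) (le_refl (h ⁻¹ᵁ U₀))
  letI := (h.appLE U₀ (h ⁻¹ᵁ U₀) le_rfl).hom.toAlgebra
  haveI : Module.Flat Γ(U, U₀) Γ(Z, h ⁻¹ᵁ U₀) := hflat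
  refine isEtaleAt_of_codim_one q ?_ huq hh
  rw [← hz, ← EtStalk.ringKrullDim_stalk e z, hd] at hdim1
  exact_mod_cast hdim1

/-- Purity of the branch locus: normal source, regular target of the same dimension. -/
theorem etale_at_of_normal_quasiFinite (f : X ⟶ Y) [LocallyOfFiniteType f]
    [IsLocallyNoetherian Y] (x : X)
    (hx : IsDomain (X.presheaf.stalk x) ∧ IsIntegrallyClosed (X.presheaf.stalk x))
    (hy : IsRegularLocalRing (Y.presheaf.stalk (f.base x))) (hq : f.QuasiFiniteAt x)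
    (hdim : ringKrullDim (X.presheaf.stalk x) = ringKrullDim (Y.presheaf.stalk (f.base x)))
    (hdim1 : (1 : WithBot ℕ∞) ≤ ringKrullDim (X.presheaf.stalk x))
    (hunr : ∀ x' : X, x' ⤳ x → ringKrullDim (X.presheaf.stalk x') = 1 →
      (f.stalkMap x').hom.FormallyUnramified) :
    ∃ U : X.Opens, x ∈ U ∧ Etale (U.ι ≫ f) := by
  haveI : IsLocallyNoetherian X := LocallyOfFiniteType.isLocallyNoetherian f
  refine exists_etale_of_quasiFinite f x hq hunr fun Z U _ e g h z _ _ _ heq _ hz huniq hu => ?_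
  have hgy : g.base (h.base z) = f.base x := by
    rw [← hz, ← Scheme.Hom.comp_apply, ← heq, Scheme.Hom.comp_apply]
  have hn : IsDomain (Z.presheaf.stalk z) ∧ IsIntegrallyClosed (Z.presheaf.stalk z) :=
    (EtStalk.normal_stalk_iff e z).2 (hz ▸ hx)
  have hr : IsRegularLocalRing (U.presheaf.stalk (h.base z)) :=
    (EtStalk.regular_stalk_iff g _).2 (hgy ▸ hy)
  have hdZ : ringKrullDim (Z.presheaf.stalk z) = ringKrullDim (U.presheaf.stalk (h.base z)) := by
    rw [EtStalk.ringKrullDim_stalk e z, EtStalk.ringKrullDim_stalk g (h.base z), hz, hgy, hdim]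
  rw [← hz, ← EtStalk.ringKrullDim_stalk e z] at hdim1
  refine exists_etale_of_finite h z huniq hu fun U₀ hU hzU => ?_
  intro q hfin _ hd huq hh
  letI := (h.appLE U₀ (h ⁻¹ᵁ U₀) le_rfl).hom.toAlgebra
  have hp : q.comap (algebraMap Γ(U, U₀) _) = (hU.primeIdealOf ⟨h.base z, hzU⟩).asIdeal :=
    congrArg PrimeSpectrum.asIdeal
      (IsAffineOpen.comap_primeIdealOf_appLE U₀ hU (h ⁻¹ᵁ U₀) (hU.preimage h) le_rfl hzU)
  letI : Algebra Γ(U, U₀) (U.presheaf.stalk (h.base z)) := U.presheaf.algebra_section_stalk ⟨h.base z, hzU⟩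
  letI : Algebra Γ(Z, h ⁻¹ᵁ U₀) (Z.presheaf.stalk z) := Z.presheaf.algebra_section_stalk ⟨z, hzU⟩
  haveI : IsLocalization.AtPrime (Z.presheaf.stalk z) q := (hU.preimage h).isLocalization_stalk ⟨z, hzU⟩
  haveI : IsLocalization (q.comap (algebraMap Γ(U, U₀) _)).primeCompl (U.presheaf.stalk (h.base z)) := by
    convert hU.isLocalization_stalk ⟨h.base z, hzU⟩ using 1
    simp [hp]
  haveI : IsRegularLocalRing (Localization.AtPrime (q.comap (algebraMap Γ(U, U₀) _))) :=
    IsRegularLocalRing.of_ringEquiv (IsLocalization.algEquiv (q.comap (algebraMap Γ(U, U₀) _)).primeCompl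
      (U.presheaf.stalk (h.base z)) _).toRingEquiv
  let eZ := (IsLocalization.algEquiv q.primeCompl (Localization.AtPrime q) (Z.presheaf.stalk z)).toRingEquiv
  haveI := hn.1
  haveI := hn.2
  haveI : IsDomain (Localization.AtPrime q) := eZ.toMulEquiv.isDomain
  haveI : IsIntegrallyClosed (Localization.AtPrime q) := .of_equiv eZ.symm
  rw [hd] at hdim1
  refine isEtaleAt_of_normal_codim_one q ?_ (by exact_mod_cast hdim1) huq hh
  rw [hd, IsLocalization.AtPrime.ringKrullDim_eq_height (q.comap (algebraMap Γ(U, U₀) _))] at hdZ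
  exact_mod_cast hdZ

end Groth.Agent.P1Codim
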